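import Groth.Agent.Lib.Slice4.Regular
import Groth.Agent.Lib.RegImm26.FlatQuot
import Groth.Agent.Lib.RegSeq26.FlatBC
import Groth.Agent.Lib.CI2.Rel
import Groth.Agent.S5803
import Mathlib

/-!
# Quotients by sequences that are quasi-regular modulo a locally nilpotent ideal
-/

universe u

open TensorProduct RingTheory.Sequence

set_option backward.isDefEq.respectTransparency false

noncomputable section

namespace Groth.Agent.QRegFlat1

variable {A' B' : Type u} [CommRing A'] [CommRing B'] [Algebra A' B']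

/-- A local ring of a fibre of a finitely generated algebra is Noetherian. -/
theorem isNoetherianRing_fibre [Algebra.FiniteType A' B'] (q : Ideal B') [q.IsPrime] (p : Ideal A') [p.IsPrime]
    (hp : p = q.comap (algebraMap A' B')) :
    IsNoetherianRing (Localization.AtPrime q ⧸
      (p.map (algebraMap A' B')).map (algebraMap B' (Localization.AtPrime q))) := by
  set N := (p.map (algebraMap A' B')).map (algebraMap B' (Localization.AtPrime q))
  let F := Localization.AtPrime q ⧸ N
  let τ : B' →+* F := (Ideal.Quotient.mk N).comp (algebraMap B' (Localization.AtPrime q))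
  have hτp : ∀ a ∈ p, τ.comp (algebraMap A' B') a = 0 := fun a ha =>
    Ideal.Quotient.eq_zero_iff_mem.2 (Ideal.mem_map_of_mem _ (Ideal.mem_map_of_mem _ ha))
  let σ : A' ⧸ p →+* F := Ideal.Quotient.lift p (τ.comp (algebraMap A' B')) hτp
  have hσu : ∀ y : nonZeroDivisors (A' ⧸ p), IsUnit (σ y) := fun ⟨y, hy⟩ => by
    obtain ⟨a, rfl⟩ := Ideal.Quotient.mk_surjective y
    have ha : a ∉ p := fun h => nonZeroDivisors.ne_zero hy (Ideal.Quotient.eq_zero_iff_mem.2 h)
    show IsUnit (τ (algebraMap A' B' a))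
    exact (IsLocalization.map_units (Localization.AtPrime q)
      (⟨algebraMap A' B' a, fun h => ha (by rw [hp]; exact h)⟩ : q.primeCompl)).map (Ideal.Quotient.mk N)
  let σK : p.ResidueField →+* F := IsLocalization.lift hσu
  have hcomm : ∀ a : A', τ (algebraMap A' B' a) = algebraMap A' F a := fun a => by
    show Ideal.Quotient.mk N (algebraMap B' (Localization.AtPrime q) (algebraMap A' B' a)) = _
    rw [← IsScalarTower.algebraMap_apply]
    rfl
  let fK : p.ResidueField →ₐ[A'] F :=
    { σK with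
      commutes' := fun a => by
        show σK (algebraMap A' p.ResidueField a) = _
        rw [IsScalarTower.algebraMap_apply A' (A' ⧸ p) p.ResidueField]
        exact (IsLocalization.lift_eq hσu _).trans (hcomm a) }
  let fB : B' →ₐ[A'] F := { τ with commutes' := hcomm }
  let φ : p.ResidueField ⊗[A'] B' →ₐ[A'] F := Algebra.TensorProduct.lift fK fB fun _ _ => mul_comm _ _
  haveI : IsNoetherianRing (p.ResidueField ⊗[A'] B') := Algebra.FiniteType.isNoetherianRing p.ResidueField _
  refine ⟨fun J => ?_⟩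
  have hJ : J = Ideal.map φ.toRingHom (Ideal.comap φ.toRingHom J) := by
    refine le_antisymm (fun z hz => ?_) Ideal.map_comap_le
    obtain ⟨w, rfl⟩ := Ideal.Quotient.mk_surjective z
    obtain ⟨⟨b, t⟩, hbt⟩ := IsLocalization.surj q.primeCompl w
    have hu : IsUnit (τ t) := (IsLocalization.map_units (Localization.AtPrime q) t).map (Ideal.Quotient.mk N)
    have hφ : φ.toRingHom (1 ⊗ₜ[A'] b) = τ b := by
      show φ (1 ⊗ₜ[A'] b) = _
      rw [Algebra.TensorProduct.lift_tmul, map_one, one_mul]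
      rfl
    have e : Ideal.Quotient.mk N w * τ t = τ b := by
      show _ * Ideal.Quotient.mk N _ = Ideal.Quotient.mk N _
      rw [← map_mul, hbt]
    have hmem : τ b ∈ Ideal.map φ.toRingHom (Ideal.comap φ.toRingHom J) := by
      rw [← hφ]
      refine Ideal.mem_map_of_mem _ ?_
      rw [Ideal.mem_comap, hφ, ← e]
      exact Ideal.mul_mem_right _ J hz
    rw [← e] at hmem
    exact (Ideal.mul_unit_mem_iff_mem _ hu).1 hmem
  rw [hJ]
  exact Ideal.FG.map (IsNoetherian.noetherian (Ideal.comap φ.toRingHom J)) φ.toRingHom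

/-- Fibrewise regularity at the primes containing the sequence. -/
theorem fibReg_of_quasiRegular [Algebra.FiniteType A' B'] (I : Ideal A') (hI : ∀ x ∈ I, IsNilpotent x)
    {r : ℕ} (f' : Fin r → B')
    (hq : CAlgX.IsQuasiRegular fun i => Ideal.Quotient.mk (I.map (algebraMap A' B')) (f' i))
    [hflat : Module.Flat (A' ⧸ I) ((B' ⧸ I.map (algebraMap A' B')) ⧸
      Ideal.span (Set.range fun i => Ideal.Quotient.mk (I.map (algebraMap A' B')) (f' i)))]
    (q : Ideal B') [q.IsPrime] (hfq : Ideal.span (Set.range f') ≤ q) :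
    KoszulFibre4.FibReg q A' (List.ofFn f') := by
  refine Slice4.fibReg_of_isWeaklyRegular q (Localization.AtPrime q) (List.ofFn f') ?_
  set p := q.comap (algebraMap A' B')
  set pA := p.map (algebraMap A' B')
  set N := pA.map (algebraMap B' (Localization.AtPrime q))
  have hIp : I ≤ p := fun x hx => Ideal.IsPrime.mem_of_pow_mem inferInstance _
    (by rw [(hI x hx).choose_spec]; exact zero_mem p)
  have hIpA : I.map (algebraMap A' B') ≤ pA := Ideal.map_mono hIp
  letI : Algebra (A' ⧸ I) (A' ⧸ p) := (Ideal.Quotient.factor hIp).toAlgebra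
  letI : Algebra (A' ⧸ I) (B' ⧸ pA) :=
    (Ideal.Quotient.lift I ((Ideal.Quotient.mk pA).comp (algebraMap A' B')) fun a ha =>
      Ideal.Quotient.eq_zero_iff_mem.2 (Ideal.mem_map_of_mem _ (hIp ha))).toAlgebra
  let f1 : (A' ⧸ p) →ₐ[A' ⧸ I] (B' ⧸ pA) :=
    { Ideal.quotientMap pA (algebraMap A' B') Ideal.le_comap_map with
      commutes' := fun a => by obtain ⟨a, rfl⟩ := Ideal.Quotient.mk_surjective a; rfl }
  let f2 : (B' ⧸ I.map (algebraMap A' B')) →ₐ[A' ⧸ I] (B' ⧸ pA) :=
    { Ideal.Quotient.factor hIpA with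
      commutes' := fun a => by obtain ⟨a, rfl⟩ := Ideal.Quotient.mk_surjective a; rfl }
  let Ψ : (A' ⧸ p) ⊗[A' ⧸ I] (B' ⧸ I.map (algebraMap A' B')) →ₐ[A' ⧸ I] (B' ⧸ pA) :=
    Algebra.TensorProduct.lift f1 f2 fun _ _ => mul_comm _ _
  have hΨ : ∀ b : B', Ψ (1 ⊗ₜ Ideal.Quotient.mk _ b) = Ideal.Quotient.mk pA b := fun b => by
    rw [Algebra.TensorProduct.lift_tmul, map_one, one_mul]; rfl
  have hsurj : ∀ x : (A' ⧸ p) ⊗[A' ⧸ I] (B' ⧸ I.map (algebraMap A' B')),
      ∃ b : B', 1 ⊗ₜ Ideal.Quotient.mk _ b = x := by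
    intro x
    induction x using TensorProduct.induction_on with
    | zero => exact ⟨0, by rw [map_zero, tmul_zero]⟩
    | tmul a b =>
      obtain ⟨a, rfl⟩ := Ideal.Quotient.mk_surjective a
      obtain ⟨b, rfl⟩ := Ideal.Quotient.mk_surjective b
      refine ⟨algebraMap A' B' a * b, ?_⟩
      have e1 : Ideal.Quotient.mk p a = Ideal.Quotient.mk I a • (1 : A' ⧸ p) := (mul_one _).symm
      rw [e1, smul_tmul, map_mul, Algebra.smul_def]
      rfl
    | add x y hx hy =>
      obtain ⟨b, hb⟩ := hx; obtain ⟨b', hb'⟩ := hy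
      exact ⟨b + b', by rw [map_add, tmul_add, hb, hb']⟩
  have hbij : Function.Bijective Ψ := by
    refine ⟨(injective_iff_map_eq_zero Ψ).2 fun x hx => ?_, fun y => ?_⟩
    · obtain ⟨b, rfl⟩ := hsurj x
      rw [hΨ, Ideal.Quotient.eq_zero_iff_mem] at hx
      have hle : pA ≤ RingHom.ker
          ((Algebra.TensorProduct.includeRight (R := A' ⧸ I) (A := A' ⧸ p)
            (B := B' ⧸ I.map (algebraMap A' B'))).toRingHom.comp (Ideal.Quotient.mk _)) := by
        refine Ideal.map_le_iff_le_comap.2 fun a ha => ?_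
        show (1 : A' ⧸ p) ⊗ₜ[A' ⧸ I] (algebraMap (A' ⧸ I) (B' ⧸ I.map (algebraMap A' B'))
          (Ideal.Quotient.mk I a)) = 0
        rw [Algebra.algebraMap_eq_smul_one, ← smul_tmul]
        have e0 : Ideal.Quotient.mk I a • (1 : A' ⧸ p) = 0 := by
          show Ideal.Quotient.mk p a * 1 = 0
          rw [mul_one, Ideal.Quotient.eq_zero_iff_mem]; exact ha
        rw [e0, zero_tmul]
      exact hle hx
    · obtain ⟨b, rfl⟩ := Ideal.Quotient.mk_surjective y
      exact ⟨_, hΨ b⟩
  let F := Localization.AtPrime q ⧸ N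
  let θ : (A' ⧸ p) ⊗[A' ⧸ I] (B' ⧸ I.map (algebraMap A' B')) →+* F :=
    (algebraMap (B' ⧸ pA) F).comp Ψ.toRingHom
  letI := θ.toAlgebra
  haveI : Module.Flat (B' ⧸ pA) F := Module.Flat.of_linearEquiv
    (Algebra.TensorProduct.quotIdealMapEquivQuotTensor (Localization.AtPrime q) pA).toLinearEquiv
  haveI : Module.Flat ((A' ⧸ p) ⊗[A' ⧸ I] (B' ⧸ I.map (algebraMap A' B'))) F :=
    (RingHom.Flat.comp (RingHom.Flat.of_bijective (f := Ψ.toRingHom) hbij)
      (RingHom.flat_algebraMap_iff.2 inferInstance) : θ.Flat)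
  have h1 := RegImm26.isQuasiRegular_baseChange (A := A' ⧸ I)
    (fun i => Ideal.Quotient.mk (I.map (algebraMap A' B')) (f' i)) (A' ⧸ p) hq
  have h2 := RegSeq26.isQuasiRegular_of_flat (B := F) h1
  have hfun : (fun i => algebraMap ((A' ⧸ p) ⊗[A' ⧸ I] (B' ⧸ I.map (algebraMap A' B'))) F
      ((1 : A' ⧸ p) ⊗ₜ Ideal.Quotient.mk (I.map (algebraMap A' B')) (f' i))) =
      (Ideal.Quotient.mk N).comp (algebraMap B' (Localization.AtPrime q)) ∘ f' := funext fun i => by
    rw [RingHom.algebraMap_toAlgebra]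
    simp only [θ, RingHom.comp_apply, Function.comp_apply, AlgHom.toRingHom_eq_coe, RingHom.coe_coe, hΨ]
    rfl
  rw [hfun] at h2
  haveI : IsNoetherianRing F := isNoetherianRing_fibre q p rfl
  have hN : N ≤ IsLocalRing.maximalIdeal (Localization.AtPrime q) := by
    rw [← Localization.AtPrime.map_eq_maximalIdeal]
    exact Ideal.map_mono (Ideal.map_comap_le)
  haveI : Nontrivial F := Ideal.Quotient.nontrivial_iff.2
    fun h => (IsLocalRing.maximalIdeal.isMaximal _).ne_top (top_le_iff.1 (h.symm.le.trans hN))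
  haveI : IsLocalRing F := IsLocalRing.of_surjective' (Ideal.Quotient.mk N) Ideal.Quotient.mk_surjective
  rw [List.map_ofFn]
  refine Groth.Agent.S5803.result F r _ (fun i => ?_) h2
  rw [IsLocalRing.ringJacobson_eq_maximalIdeal, IsLocalRing.mem_maximalIdeal]
  show ¬ IsUnit (Ideal.Quotient.mk N (algebraMap B' (Localization.AtPrime q) (f' i)))
  intro hu
  obtain ⟨z, hz⟩ := hu.exists_right_inv
  obtain ⟨w, rfl⟩ := Ideal.Quotient.mk_surjective z
  rw [← map_mul, ← map_one (Ideal.Quotient.mk N), Ideal.Quotient.eq] at hz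
  have hfm : algebraMap B' (Localization.AtPrime q) (f' i) * w ∈ IsLocalRing.maximalIdeal _ :=
    Ideal.mul_mem_right _ _ ((IsLocalization.AtPrime.to_map_mem_maximal_iff _ q _).2 (hfq (Ideal.subset_span ⟨i, rfl⟩)))
  have := sub_mem hfm (hN hz)
  rw [sub_sub_cancel] at this
  exact (IsLocalRing.maximalIdeal.isMaximal _).ne_top ((Ideal.eq_top_iff_one _).2 this)

/-- Flatness of the quotient by a sequence which is quasi-regular with flat quotient modulo a
locally nilpotent ideal. -/
theorem flat_quotient (I : Ideal A') (hI : ∀ x ∈ I, IsNilpotent x) [Module.Flat A' B']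
    [Algebra.FinitePresentation A' B'] {r : ℕ} (f' : Fin r → B')
    (hq : CAlgX.IsQuasiRegular fun i => Ideal.Quotient.mk (I.map (algebraMap A' B')) (f' i))
    [hflat : Module.Flat (A' ⧸ I) ((B' ⧸ I.map (algebraMap A' B')) ⧸
      Ideal.span (Set.range fun i => Ideal.Quotient.mk (I.map (algebraMap A' B')) (f' i)))] :
    Module.Flat A' (B' ⧸ Ideal.span (Set.range f')) := by
  set J := Ideal.span (Set.range f')
  have hJ : Ideal.ofList (List.ofFn f') = J := by
    show Ideal.span {x | x ∈ List.ofFn f'} = Ideal.span (Set.range f')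
    congr 1
    ext x
    simp
  let s : Set B' := {g | Module.Flat A' (Localization.Away g ⧸ J.map (algebraMap B' (Localization.Away g)))}
  have hs : Ideal.span s = ⊤ := by
    by_contra hne
    obtain ⟨q, hq', hle⟩ := Ideal.exists_le_maximal _ hne
    haveI := hq'.isPrime
    by_cases hJq : J ≤ q
    · obtain ⟨g, hg, hgood⟩ := Slice4.exists_regular_flat_away q (List.ofFn f') (hJ ▸ hJq)
        (fibReg_of_quasiRegular I hI f' hq q hJq)
      refine hg (hle (Ideal.subset_span ?_))
      have h := (hgood g dvd_rfl (Localization.Away g)).2 _ le_rfl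
      rwa [List.take_of_length_le (by simp), ← Ideal.map_ofList, hJ] at h
    · obtain ⟨g, hgJ, hgq⟩ := SetLike.not_le_iff_exists.1 hJq
      refine hgq (hle (Ideal.subset_span ?_))
      have htop : J.map (algebraMap B' (Localization.Away g)) = ⊤ :=
        Ideal.eq_top_of_isUnit_mem _ (Ideal.mem_map_of_mem _ hgJ) (IsLocalization.Away.algebraMap_isUnit g)
      haveI : Subsingleton (Localization.Away g ⧸ J.map (algebraMap B' (Localization.Away g))) :=
        Ideal.Quotient.subsingleton_iff.2 htop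
      show Module.Flat A' _
      infer_instance
  haveI : ∀ g : s, IsLocalizedModule.Away g.1 (CI2.quotLoc (L := Localization.Away g.1) J) :=
    fun g => CI2.isLocalizedModule_quotLoc _ J
  exact Module.flat_of_isLocalized_span (S := B') (M := B' ⧸ J) s hs
    (fun g => Localization.Away g.1 ⧸ J.map (algebraMap B' (Localization.Away g.1)))
    (fun g => CI2.quotLoc (L := Localization.Away g.1) J) fun g => g.2

end Groth.Agent.QRegFlat1

namespace Groth.Agent.QRegFlat1

/-- Base change along a surjection: tensoring with a `A₀`-algebra does not see it. -/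
theorem nonempty_tensor_equiv {A A₀ K C C₀ : Type u} [CommRing A] [CommRing A₀] [CommRing K] [CommRing C]
    [CommRing C₀] [Algebra A A₀] [Algebra A K] [Algebra A₀ K] [Algebra A C] [Algebra A C₀] [Algebra A₀ C₀]
    [IsScalarTower A A₀ K] [IsScalarTower A A₀ C₀]
    (hA : Function.Surjective (algebraMap A A₀)) (g : C →ₐ[A] C₀) (hg : Function.Surjective g)
    (h : ∀ c, g c = 0 → (1 : K) ⊗ₜ[A] c = 0) : Nonempty ((K ⊗[A₀] C₀) ≃ₐ[K] (K ⊗[A] C)) := by
  let ι : C →+* K ⊗[A] C := (Algebra.TensorProduct.includeRight : C →ₐ[A] K ⊗[A] C).toRingHom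
  let g₀ : C₀ →+* K ⊗[A] C := (g.toRingHom).liftOfSurjective hg ⟨ι, fun c hc => h c hc⟩
  have hg₀ : ∀ c, g₀ (g c) = (1 : K) ⊗ₜ[A] c := fun c => RingHom.liftOfRightInverse_comp_apply _ _ _ _ c
  let g₁ : C₀ →ₐ[A₀] K ⊗[A] C :=
    { g₀ with
      commutes' := fun a => by
        obtain ⟨a, rfl⟩ := hA a
        show g₀ _ = _
        rw [← IsScalarTower.algebraMap_apply A A₀ C₀, ← g.commutes, hg₀,
          Algebra.TensorProduct.algebraMap_apply, ← IsScalarTower.algebraMap_apply A A₀ K,
          Algebra.algebraMap_eq_smul_one, Algebra.algebraMap_eq_smul_one, TensorProduct.smul_tmul] }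
  let φ : K ⊗[A₀] C₀ →ₐ[K] K ⊗[A] C :=
    Algebra.TensorProduct.lift (Algebra.ofId K _) g₁ fun _ _ => Commute.all _ _
  let ψ : K ⊗[A] C →ₐ[K] K ⊗[A₀] C₀ :=
    Algebra.TensorProduct.lift (Algebra.ofId K _)
      (((Algebra.TensorProduct.includeRight : C₀ →ₐ[A₀] K ⊗[A₀] C₀).restrictScalars A).comp g)
      fun _ _ => Commute.all _ _
  refine ⟨AlgEquiv.ofAlgHom φ ψ (Algebra.TensorProduct.ext' fun x c => ?_) (Algebra.TensorProduct.ext' fun x c => ?_)⟩
  · show φ (ψ (x ⊗ₜ[A] c)) = x ⊗ₜ[A] c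
    rw [Algebra.TensorProduct.lift_tmul, map_mul, Algebra.ofId_apply, AlgHom.commutes]
    show algebraMap K _ x * φ ((1 : K) ⊗ₜ[A₀] g c) = _
    rw [Algebra.TensorProduct.lift_tmul, map_one, one_mul]
    show algebraMap K _ x * g₀ (g c) = _
    rw [hg₀, Algebra.TensorProduct.algebraMap_apply, Algebra.TensorProduct.tmul_mul_tmul, mul_one, one_mul]
    rfl
  · obtain ⟨c, rfl⟩ := hg c
    show ψ (φ (x ⊗ₜ[A₀] g c)) = x ⊗ₜ[A₀] g c
    rw [Algebra.TensorProduct.lift_tmul, map_mul, Algebra.ofId_apply, AlgHom.commutes]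
    show algebraMap K _ x * ψ (g₀ (g c)) = _
    rw [hg₀, Algebra.TensorProduct.lift_tmul, map_one, one_mul]
    show algebraMap K _ x * ((1 : K) ⊗ₜ[A₀] g c) = _
    rw [Algebra.TensorProduct.algebraMap_apply, Algebra.TensorProduct.tmul_mul_tmul, mul_one, one_mul]
    rfl

/-- Formal smoothness of a fibre is checked after a surjective change of base. -/
theorem formallySmooth_tensor {A A₀ K C C₀ : Type u} [CommRing A] [CommRing A₀] [CommRing K] [CommRing C]
    [CommRing C₀] [Algebra A A₀] [Algebra A K] [Algebra A₀ K] [Algebra A C] [Algebra A C₀] [Algebra A₀ C₀]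
    [IsScalarTower A A₀ K] [IsScalarTower A A₀ C₀] [Algebra.FormallySmooth A₀ C₀]
    (hA : Function.Surjective (algebraMap A A₀)) (g : C →ₐ[A] C₀) (hg : Function.Surjective g)
    (h : ∀ c, g c = 0 → (1 : K) ⊗ₜ[A] c = 0) : Algebra.FormallySmooth K (K ⊗[A] C) := by
  obtain ⟨e⟩ := nonempty_tensor_equiv hA g hg h
  exact Algebra.FormallySmooth.of_equiv e

end Groth.Agent.QRegFlat1
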